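import Groth.Prelude.Def_Omega3
import Groth.Prelude.Def_CohB1
import Mathlib.Algebra.Category.ModuleCat.Differentials.Presheaf
import Mathlib.Algebra.Category.ModuleCat.Presheaf.Sheafification

/-!
# Universal derivations exist for every morphism of schemes

The functions on `U` coming from some open of the base form a subring, so the construction of the presheaf of
differentials for a morphism of presheaves of rings on the same space applies; sheafify it.
-/

set_option autoImplicit false
set_option backward.isDefEq.respectTransparency false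
set_option backward.isDefEq.respectTransparency.types false
set_option maxHeartbeats 1000000

universe u

open CategoryTheory AlgebraicGeometry Opposite TopologicalSpace
open PresheafOfModules

noncomputable section

namespace GrothLib.OmegaExist4

variable {X Y : Scheme.{u}} (f : X ⟶ Y)

/-- Functions on `U` coming from the base. -/
def baseSub (U : X.Opens) : Subring Γ(X, U) where
  carrier := {a | ∃ (V : Y.Opens) (e : U ≤ f ⁻¹ᵁ V) (s : Γ(Y, V)), f.appLE V U e s = a}
  zero_mem' := ⟨⊤, le_top, 0, map_zero _⟩
  one_mem' := ⟨⊤, le_top, 1, map_one _⟩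
  neg_mem' := by
    rintro _ ⟨V, e, s, rfl⟩
    exact ⟨V, e, -s, map_neg _ _⟩
  add_mem' := by
    rintro _ _ ⟨V, e, s, rfl⟩ ⟨W, e', t, rfl⟩
    refine ⟨V ⊓ W, fun x hx => ⟨e hx, e' hx⟩, Y.presheaf.map (homOfLE inf_le_left).op s +
      Y.presheaf.map (homOfLE inf_le_right).op t, ?_⟩
    rw [map_add, ← CommRingCat.comp_apply, ← CommRingCat.comp_apply, Scheme.Hom.map_appLE, Scheme.Hom.map_appLE]
  mul_mem' := by
    rintro _ _ ⟨V, e, s, rfl⟩ ⟨W, e', t, rfl⟩
    refine ⟨V ⊓ W, fun x hx => ⟨e hx, e' hx⟩, Y.presheaf.map (homOfLE inf_le_left).op s *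
      Y.presheaf.map (homOfLE inf_le_right).op t, ?_⟩
    rw [map_mul, ← CommRingCat.comp_apply, ← CommRingCat.comp_apply, Scheme.Hom.map_appLE, Scheme.Hom.map_appLE]

theorem map_mem {U U' : (X.Opens)ᵒᵖ} (h : U ⟶ U') (a : Γ(X, U.unop)) (ha : a ∈ baseSub f U.unop) :
    X.presheaf.map h a ∈ baseSub f U'.unop := by
  obtain ⟨V, e, s, rfl⟩ := ha
  exact ⟨V, h.unop.le.trans e, s, congr($((f.appLE_map e h).symm) s)⟩

/-- The subpresheaf of functions coming from the base. -/
def baseRing : (X.Opens)ᵒᵖ ⥤ CommRingCat.{u} where
  obj U := CommRingCat.of (baseSub f U.unop)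
  map {U U'} h := CommRingCat.ofHom ((X.presheaf.map h).hom.restrict (baseSub f U.unop) (baseSub f U'.unop)
    (fun a ha => map_mem f h a ha))
  map_id U := by
    ext a
    exact congr($(X.presheaf.map_id U) a.1)
  map_comp {U U' U''} h h' := by
    ext a
    exact congr($(X.presheaf.map_comp h h') a.1)

/-- Its inclusion. -/
def incl : baseRing f ⟶ X.sheaf.obj where
  app U := CommRingCat.ofHom (baseSub f U.unop).subtype
  naturality _ _ _ := rfl

/-- Derivations killing the functions of the base kill the subpresheaf. -/
def toInner {M : CohB1.PMod X} (D : M.Derivation (S := Y.presheaf) (F := Opens.map f.base) (R := X.presheaf) f.c) :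
    M.Derivation' (incl f) where
  d {U} := D.d
  d_mul a b := D.d_mul a b
  d_map h x := D.d_map h x
  d_app {U} := by
    rintro ⟨a, V, e, s, rfl⟩
    show D.d (X.presheaf.map (homOfLE e).op (f.app V s)) = 0
    refine (D.d_map (homOfLE e).op (f.app V s)).trans ?_
    rw [show D.d (f.app V s) = 0 from D.d_app (X := op V) s, map_zero]

/-- The presheaf of differentials. -/
def preOmega : CohB1.PMod X := DifferentialsConstruction.relativeDifferentials' (incl f)

/-- Its derivation. -/
def preDer : (preOmega f).Derivation (S := Y.presheaf) (F := Opens.map f.base) (R := X.presheaf) f.c where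
  d {U} := (DifferentialsConstruction.derivation' (incl f)).d
  d_mul a b := (DifferentialsConstruction.derivation' (incl f)).d_mul a b
  d_map h x := (DifferentialsConstruction.derivation' (incl f)).d_map h x
  d_app {V} s := (DifferentialsConstruction.derivation' (incl f)).d_app (X := op (f ⁻¹ᵁ V.unop))
    (⟨f.app V.unop s, V.unop, le_rfl, s, congr($(f.app_eq_appLE (U := V.unop)) s).symm⟩ :
      baseSub f (f ⁻¹ᵁ V.unop))

/-- The sheaf of differentials. -/
def omega : X.Modules := (CohB1.sheafifyMod X).obj (preOmega f)

/-- The adjunction. -/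
abbrev sheafAdj := PresheafOfModules.sheafificationAdjunction (R := X.ringCatSheaf) (𝟙 X.ringCatSheaf.obj)

/-- The derivation. -/
def der : OmegaSh.Der f (omega f) :=
  (preDer f).postcomp ((sheafAdj (X := X)).unit.app (preOmega f))

theorem isUniversal_der : OmegaSh.IsUniversal (der f) := by
  intro F D
  let adj := sheafAdj (X := X)
  let U := DifferentialsConstruction.isUniversal' (incl f)
  let D' : F.val.Derivation' (incl f) := toInner f D
  have hα : ∀ α : omega f ⟶ F, (der f).postcomp α.val =
      (preDer f).postcomp (adj.homEquiv (preOmega f) F α) := by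
    intro α
    ext V b
    rw [Adjunction.homEquiv_unit]
    rfl
  refine ⟨(adj.homEquiv (preOmega f) F).symm (U.desc D'), ?_, fun α hα' => ?_⟩
  · show (der f).postcomp ((adj.homEquiv (preOmega f) F).symm (U.desc D')).val = D
    rw [hα, Equiv.apply_symm_apply]
    ext V b
    exact Derivation.congr_d (U.fac D') b
  · refine (Equiv.eq_symm_apply _).2 ?_
    refine U.postcomp_injective _ _ (((?_ : _ = D')).trans (U.fac D').symm)
    ext V b
    exact Derivation.congr_d ((hα α).symm.trans hα') b

/-- Every morphism of schemes has a sheaf of differentials. -/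
theorem exists_universal : ∃ (Ω : X.Modules) (d : OmegaSh.Der f Ω), OmegaSh.IsUniversal d :=
  ⟨omega f, der f, isUniversal_der f⟩

end GrothLib.OmegaExist4
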